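import Groth.Agent.AVAmpleLib.ReducedSub
import Groth.Agent.AVAmpleLib.GrDense
import Groth.Agent.GrpFieldLib.Comps
import Groth.Agent.S7795
import Groth.Prelude

/-!
# Closures of subgroups of rational points over an arbitrary field
-/

set_option autoImplicit false
set_option linter.style.haveILetI false
set_option backward.isDefEq.respectTransparency false

universe u

open CategoryTheory CategoryTheory.Limits MonoidalCategory CartesianMonoidalCategory MonObj AlgebraicGeometry TopologicalSpace
open AVAmpleLib (pt tR)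

noncomputable section

namespace DenseSubLib

variable {k : Type u} [Field k] {A : Over (Spec (CommRingCat.of k))} [GrpObj A] [LocallyOfFiniteType A.hom]

/-- The closure of a subgroup of rational points, reduced, is a smooth closed subgroup scheme. -/
theorem exists_smooth_subgroup (H : Subgroup (𝟙_ (Over (Spec (CommRingCat.of k))) ⟶ A)) :
    ∃ (B : Over (Spec (CommRingCat.of k))) (_ : GrpObj B) (i : B ⟶ A), IsMonHom i ∧ IsClosedImmersion i.left ∧
      Smooth B.hom ∧ Set.range i.left = closure (pt '' (H : Set (𝟙_ (Over (Spec (CommRingCat.of k))) ⟶ A))) := by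
  haveI : IsSeparated A.hom := Groth.Agent.GrpField.isSeparated_grp (G := A)
  set C : Set A.left := closure (pt '' (H : Set (𝟙_ (Over (Spec (CommRingCat.of k))) ⟶ A))) with hCdef
  have hC : IsClosed C := isClosed_closure
  have hHC : ∀ a ∈ H, pt a ∈ C := fun a ha => subset_closure ⟨a, ha, rfl⟩
  let I := Scheme.IdealSheafData.vanishingIdeal (⟨C, hC⟩ : Closeds A.left)
  haveI : IsReduced I.subscheme := DevissLib.isReduced_vanishingIdeal' _
  let B : Over (Spec (CommRingCat.of k)) := Over.mk (I.subschemeι ≫ A.hom)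
  let j : B ⟶ A := Over.homMk I.subschemeι rfl
  haveI : IsClosedImmersion j.left := inferInstanceAs (IsClosedImmersion I.subschemeι)
  haveI : IsReduced B.left := inferInstanceAs (IsReduced I.subscheme)
  haveI hB : LocallyOfFiniteType B.hom := inferInstanceAs (LocallyOfFiniteType (I.subschemeι ≫ A.hom))
  haveI : IsSeparated B.hom := inferInstanceAs (IsSeparated (I.subschemeι ≫ A.hom))
  haveI : Mono j := Over.mono_of_mono_left j
  have hr : Set.range j.left = C := by
    show Set.range I.subschemeι = C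
    rw [Scheme.IdealSheafData.range_subschemeι, Scheme.IdealSheafData.coe_support_vanishingIdeal]
    rfl
  have hfac : ∀ (Z : Over (Spec (CommRingCat.of k))) (h : Z ⟶ A), IsReduced Z.left →
      Set.range h.left ⊆ C → ∃ l : Z ⟶ B, l ≫ j = h := by
    intro Z h _ hz
    obtain ⟨l, hl⟩ := AVAmpleLib.exists_lift_of_reduced j.left h.left (hr ▸ hz)
    refine ⟨Over.homMk l ?_, Over.OverMorphism.ext hl⟩
    rw [← Over.w h, ← hl, Category.assoc, Over.w j]
  haveI : IsReduced (𝟙_ (Over (Spec (CommRingCat.of k)))).left := inferInstanceAs (IsReduced (Spec (CommRingCat.of k)))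
  have hpt : ∀ a : H, ∃ l : 𝟙_ (Over (Spec (CommRingCat.of k))) ⟶ B, l ≫ j = a.1 := fun a =>
    hfac _ a.1 inferInstance (by
      rintro _ ⟨y, rfl⟩
      rw [show y = IsLocalRing.closedPoint k from @Subsingleton.elim (PrimeSpectrum k) _ _ _]
      exact hHC a.1 a.2)
  choose lH hlH using hpt
  have hdense : Dense (⋃ a : H, Set.range (lH a).left) := by
    rw [dense_iff_closure_eq, j.left.isClosedEmbedding.isEmbedding.isInducing.closure_eq_preimage_closure_image]
    refine Set.eq_univ_of_forall fun x => closure_mono ?_ (show j.left x ∈ C from hr ▸ ⟨x, rfl⟩)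
    rintro _ ⟨a, ha, rfl⟩
    refine ⟨(lH ⟨a, ha⟩).left (IsLocalRing.closedPoint k), Set.mem_iUnion.2 ⟨⟨a, ha⟩, _, rfl⟩, ?_⟩
    exact (Scheme.Hom.comp_apply (lH ⟨a, ha⟩).left j.left _).symm.trans
      congr($(congrArg CommaMorphism.left (hlH ⟨a, ha⟩)) (IsLocalRing.closedPoint k))
  haveI : GeometricallyReduced B.hom := by
    haveI : ∀ a : H, IsClosedImmersion (lH a).left := fun a => by
      haveI : IsClosedImmersion ((lH a).left ≫ B.hom) := by
        rw [Over.w (lH a)]; exact inferInstanceAs (IsClosedImmersion (𝟙 (Spec (CommRingCat.of k))))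
      exact IsClosedImmersion.of_comp _ B.hom
    refine AVAmpleLib.geometricallyReduced_of_dense B.hom (fun a : H => (lH a).left) (fun a => ?_) hdense
    rw [Over.w (lH a)]
    exact inferInstanceAs (FormallyUnramified (𝟙 (Spec (CommRingCat.of k))))
  haveI : IsLocallyNoetherian B.left := LocallyOfFiniteType.isLocallyNoetherian B.hom
  haveI : IsReduced (B ⊗ B).left := inferInstanceAs (IsReduced (pullback B.hom B.hom))
  have hclosed : ∀ {Z : Over (Spec (CommRingCat.of k))} (h : Z ⟶ A) (D : Set Z.left), Dense D →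
      (∀ y ∈ D, h.left y ∈ C) → Set.range h.left ⊆ C := by
    rintro Z h D hD hy _ ⟨y, rfl⟩
    exact (hC.preimage h.left.continuous).closure_subset_iff.2 hy (hD y)
  have hp : ∀ (a : H) (h : B ⟶ A), pt (lH a ≫ h) ∈ C → ∀ y ∈ Set.range (lH a).left, h.left y ∈ C := by
    rintro a h hh _ ⟨z, rfl⟩
    rw [show z = IsLocalRing.closedPoint k from @Subsingleton.elim (PrimeSpectrum k) _ _ _]
    rwa [← Scheme.Hom.comp_apply, ← Over.comp_left]
  have hmul : Set.range ((fst B B ≫ j) * (snd B B ≫ j)).left ⊆ C := by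
    set W : Set (B ⊗ B).left := ((fst B B ≫ j) * (snd B B ≫ j)).left ⁻¹' C with hW
    have hWc : IsClosed W := hC.preimage (Scheme.Hom.continuous _)
    have hsl : ∀ b : H, ∀ y : (B ⊗ B).left, (snd B B).left y ∈ Set.range (lH b).left → y ∈ W := by
      intro b y hy
      have hy' : y ∈ Set.range (B ◁ lH b).left := by
        rw [Over.snd_left] at hy
        rw [Over.whiskerLeft_left]
        exact (Scheme.Pullback.range_map _ _ _ _ _ _ _ _ _).ge ⟨⟨_, rfl⟩, hy⟩
      obtain ⟨z, rfl⟩ := hy'
      have e : B ◁ lH b ≫ ((fst B B ≫ j) * (snd B B ≫ j)) = fst B _ ≫ j ≫ tR b.1 := by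
        rw [MonObj.comp_mul, whiskerLeft_fst_assoc, whiskerLeft_snd_assoc, hlH b]
        simp only [tR, MonObj.comp_mul, Category.comp_id, ← Category.assoc]
        rw [toUnit_unique ((fst B (𝟙_ (Over (Spec (CommRingCat.of k)))) ≫ j) ≫ toUnit A) (snd B _)]
      have h1 : Set.range (j ≫ tR b.1).left ⊆ C := by
        refine hclosed _ _ hdense fun y hy => ?_
        obtain ⟨a, hy⟩ := Set.mem_iUnion.1 hy
        refine hp a _ ?_ y hy
        rw [← Category.assoc, hlH a, AVAmpleLib.point_tR]
        exact hHC _ (H.mul_mem a.2 b.2)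
      show _ ∈ C
      rw [← Scheme.Hom.comp_apply, ← Over.comp_left, e, Over.comp_left, Scheme.Hom.comp_apply]
      exact h1 ⟨_, rfl⟩
    suffices h : ∀ y, y ∈ W by rintro _ ⟨y, rfl⟩; exact h y
    intro y
    by_contra hy
    haveI : Flat B.hom := Groth.Agent.GrpField.flat_field _
    haveI : IsLocallyNoetherian (Spec (CommRingCat.of k)) := inferInstance
    haveI : LocallyOfFinitePresentation B.hom := LocallyOfFinitePresentation.iff_locallyOfFiniteType.2 inferInstance
    haveI : Flat (snd B B).left := by rw [Over.snd_left]; infer_instance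
    haveI : LocallyOfFinitePresentation (snd B B).left := by rw [Over.snd_left]; infer_instance
    have hop : IsOpen ((snd B B).left '' Wᶜ) := (snd B B).left.isOpenMap _ hWc.isOpen_compl
    obtain ⟨z, ⟨w, hw, rfl⟩, hz⟩ := hdense.inter_open_nonempty _ hop ⟨_, y, hy, rfl⟩
    obtain ⟨b, hb⟩ := Set.mem_iUnion.1 hz
    exact hw (hsl b w hb)
  have hone : Set.range (1 : 𝟙_ (Over (Spec (CommRingCat.of k))) ⟶ A).left ⊆ C := by
    rintro _ ⟨y, rfl⟩
    rw [show y = IsLocalRing.closedPoint k from @Subsingleton.elim (PrimeSpectrum k) _ _ _]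
    exact hHC 1 H.one_mem
  have hinv : Set.range (j⁻¹).left ⊆ C := by
    refine hclosed _ _ hdense fun y hy => ?_
    obtain ⟨a, hy⟩ := Set.mem_iUnion.1 hy
    refine hp a _ ?_ y hy
    rw [GrpObj.comp_inv, hlH a]
    exact hHC _ (H.inv_mem a.2)
  obtain ⟨G, hG⟩ := Groth.Agent.SubDesc.exists_grpObj_of_mono j
    (hfac (B ⊗ B) _ inferInstance hmul) (hfac _ _ inferInstance hone) (hfac B _ inferInstance hinv)
  letI := G
  refine ⟨B, G, j, hG, inferInstance, ?_, hr⟩
  haveI : Flat B.hom := Groth.Agent.GrpField.flat_field _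
  haveI : LocallyOfFinitePresentation B.hom := LocallyOfFinitePresentation.iff_locallyOfFiniteType.2 inferInstance
  exact Groth.Agent.S7795.result B

end DenseSubLib

end
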